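import Groth.Agent.Lib.GeomSS.Finite
import Groth.Agent.Lib.Hilb20.GiesekerRun
import Groth.Agent.S15200

/-!
# Semistability under an arbitrary extension of the ground field
-/

set_option autoImplicit false
set_option linter.style.haveILetI false
set_option linter.unusedSectionVars false
set_option maxHeartbeats 1000000
set_option backward.isDefEq.respectTransparency.types false

universe u

open CategoryTheory CategoryTheory.Limits AlgebraicGeometry Polynomial
open StabCat (alpha RedLE RedEq)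
open GrothLib.Snapper (DimLT)

noncomputable section

namespace GrothLib.GeomSS

theorem isCoh_pullback' {Y Z : Scheme.{u}} (g : Y ⟶ Z) {M : Z.Modules} (hM : Coh.IsCoh M) :
    Coh.IsCoh ((Scheme.Modules.pullback g).obj M) :=
  haveI := hM.1
  haveI := FittSheaf.isQuasicoherent_pullback g M
  ⟨inferInstance, (QCoh.isFiniteType_iff_moduleFinite _).2 fun V hV => FittSheaf.moduleFinite_pullback g M hM.2 hV⟩

theorem isZero_of_pullback {Y Z : Scheme.{u}} (g : Y ⟶ Z) [Flat g] [Surjective g] {M : Z.Modules}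
    (h : IsZero ((Scheme.Modules.pullback g).obj M)) : IsZero M := by
  haveI := QCohDesc.mono_unit g M
  exact IsZero.of_mono ((Scheme.Modules.pullbackPushforwardAdjunction g).unit.app M)
    (Functor.map_isZero (Scheme.Modules.pushforward g) h)

theorem dimLT_of_degree {k : Type u} [Field k] {Y : Scheme.{u}} [Y.Over (Spec (CommRingCat.of k))]
    [IsProper (Y ↘ Spec (CommRingCat.of k))] {L F : Y.Modules} (hL : CohB1.IsAmple L) (hF : Coh.IsCoh F)
    {P : ℚ[X]} (hP : ShStab.IsHilbPoly k Y L F P) {n : ℕ} (hd : P.degree < (n : WithBot ℕ)) :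
    DimLT (CohB1.support F) n := by
  haveI := Euler.isNoetherian_of_proper (X := Y) k
  by_cases hz : IsZero F
  · intro l hl
    have := hl 0
    rw [Hilb20.support_eq_empty_of_isZero hz] at this
    exact this.elim
  obtain ⟨D, hD⟩ := Hilb20.exists_dimLT (k := k) (CohB1.support F)
  obtain ⟨e, -, h1, h2⟩ := Hilb20.exists_exact_dim hz hD
  have hc := (Hilb20.coeffPos e Y L F hL hF h1 P hP).2 h2
  intro l hl
  have h3 := h1 l hl
  have h4 : e < n := by
    by_contra hn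
    exact hc.ne' (coeff_eq_zero_of_degree_lt (hd.trans_le (by exact_mod_cast (not_lt.1 hn))))
  omega

variable {k : Type u} [Field k] {X : Scheme.{u}} [X.Over (Spec (CommRingCat.of k))]
  [IsProper (X ↘ Spec (CommRingCat.of k))] {L E : X.Modules} {d : ℕ}

section Field

variable (K : Type u) [Field K] [Algebra k K]

theorem isAmple_bc (hL : CohB1.IsAmple L) : CohB1.IsAmple ((Scheme.Modules.pullback (Curv2.bcFst k X K)).obj L) :=
  haveI : IsAffineHom (Curv2.bcFst k X K) := MorphismProperty.pullback_fst _ _ inferInstance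
  Ample.isAmple_pullback_of_isAffineHom _ hL

theorem dimLT_bc (hL : CohB1.IsAmple L) (hE : Coh.IsCoh E) (hd : DimLT (CohB1.support E) (d + 1)) :
    DimLT (CohB1.support ((Scheme.Modules.pullback (Curv2.bcFst k X K)).obj E)) (d + 1) := by
  haveI := Hilb20.isProper_bc (X := X) k K
  obtain ⟨P, hP⟩ := Hilb20.exists_isHilbPoly (k := k) hL hE hd
  exact dimLT_of_degree (isAmple_bc K hL) (Hilb20.isCoh_pullback_bc k K hE) (Hilb20.isHilbPoly_bc k K hL.1 hE hP)
    (Hilb20.degree_lt_of_dimLT hL.1 hE hd hP)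

variable {K} in
/-- Pushing a submodule to a larger field. -/
theorem exists_bigger {Ω : Type u} [Field Ω] [Algebra k Ω] (j : K →ₐ[k] Ω) (hL : CohB1.IsAmple L)
    {F : (Curv2.bc k X K).Modules} (ι : F ⟶ (Scheme.Modules.pullback (Curv2.bcFst k X K)).obj E) [Mono ι]
    (hF : Coh.IsCoh F) {pF : ℚ[X]}
    (hpF : ShStab.IsHilbPoly K (Curv2.bc k X K) ((Scheme.Modules.pullback (Curv2.bcFst k X K)).obj L) F pF) :
    Mono ((Scheme.Modules.pullback (bcHom k X j)).map ι ≫ (θ k X j).hom.app E) ∧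
      Coh.IsCoh ((Scheme.Modules.pullback (bcHom k X j)).obj F) ∧
      ShStab.IsHilbPoly Ω (Curv2.bc k X Ω) ((Scheme.Modules.pullback (Curv2.bcFst k X Ω)).obj L)
        ((Scheme.Modules.pullback (bcHom k X j)).obj F) pF := by
  haveI := flat_bcHom k X j
  haveI := QCohDesc.mono_pullback_map (bcHom k X j) ι
  exact ⟨mono_comp _ _, isCoh_pullback' _ hF,
    isHilbPoly_bcHom k X j ((θ k X j).app L) (Iso.refl _) (Ample.isInvertible_pullback _ hL.1) hF hpF⟩

end Field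

section Closed

variable (Ω : Type u) [Field Ω] [IsAlgClosed Ω] [Algebra k Ω]

set_option quotPrecheck false in
local notation "EΩ" => (Scheme.Modules.pullback (Curv2.bcFst k X Ω)).obj E
set_option quotPrecheck false in
local notation "LΩ" => (Scheme.Modules.pullback (Curv2.bcFst k X Ω)).obj L

/-- An invariant submodule satisfies the bound. -/
theorem bound_of_invariant (hL : CohB1.IsAmple L) (hE : ShStab.IsSemistable k X L E d) {pE : ℚ[X]}
    (hpE : ShStab.IsHilbPoly k X L E pE) {F : (Curv2.bc k X Ω).Modules} (hF : Coh.IsCoh F) (ι : F ⟶ EΩ) [Mono ι]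
    (hinv : ∀ σ : Ω →ₐ[k] Ω, ∃ ψ : (Scheme.Modules.pullback (bcHom k X σ)).obj F ⟶ F,
      ψ ≫ ι = (Scheme.Modules.pullback (bcHom k X σ)).map ι ≫ (θ k X σ).hom.app E)
    {pF : ℚ[X]} (hpF : ShStab.IsHilbPoly Ω (Curv2.bc k X Ω) LΩ F pF) :
    (IsZero F ∨ 0 < alpha d pF) ∧ RedLE d pF pE := by
  obtain ⟨K₁, _, F₁, ι₁, hι₁, hF₁, ⟨e⟩⟩ := exists_descend hL Ω hE.1 hF ι hinv
  haveI := hι₁
  haveI := Hilb20.isProper_bc (X := X) k K₁
  haveI := Euler.isNoetherian_of_proper (X := Curv2.bc k X K₁) K₁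
  obtain ⟨D, hD⟩ := Hilb20.exists_dimLT (k := K₁) (CohB1.support F₁)
  obtain ⟨p₁, hp₁⟩ := Hilb20.exists_isHilbPoly (k := K₁) (isAmple_bc K₁ hL) hF₁ hD
  have hp : pF = p₁ := Hilb20.isHilbPoly_unique hpF
    (isHilbPoly_bcHom k X K₁.val ((θ k X K₁.val).app L) e (Ample.isInvertible_pullback _ hL.1) hF₁ hp₁)
  obtain ⟨h1, h2⟩ := finite_bound (k := k) K₁ hL hE hpE ι₁ hF₁ hp₁
  rw [hp]
  exact ⟨h1.imp (fun hz => (Functor.map_isZero _ hz).of_iso e.symm) id, h2⟩

theorem eq_bot_of_alpha_eq_zero (hL : CohB1.IsAmple L) (hE : ShStab.IsSemistable k X L E d)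
    {F : (Curv2.bc k X Ω).Modules} (hF : Coh.IsCoh F) (ι : F ⟶ EΩ) [Mono ι]
    {pF : ℚ[X]} (hpF : ShStab.IsHilbPoly Ω (Curv2.bc k X Ω) LΩ F pF) (hα : alpha d pF = 0) : IsZero F := by
  classical
  haveI := Euler.isNoetherian_of_proper (X := X) k
  haveI := Hilb20.isProper_bc (X := X) k Ω
  haveI := Euler.isNoetherian_of_proper (X := Curv2.bc k X Ω) Ω
  have hdE := dimLT_bc (k := k) Ω hL hE.1 (Hilb20.isPure_self_dimLT hE.1 hE.2.2.1)
  have hLΩ := isAmple_bc (k := k) (X := X) Ω hL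
  have hEΩ := Hilb20.isCoh_pullback_bc k Ω hE.1
  haveI : WellFoundedGT (Hilb20.CohSub EΩ) := Hilb20.isNoetherian_cohSub hEΩ
  let P : Hilb20.CohSub EΩ → Prop := fun S => alpha d (Hilb20.hp Ω LΩ (S.1 : (Curv2.bc k X Ω).Modules)) = 0
  have hnn : ∀ S : Hilb20.CohSub EΩ, 0 ≤ alpha d (Hilb20.hp Ω LΩ (S.1 : (Curv2.bc k X Ω).Modules)) := fun S =>
    Hilb20.alpha_nonneg hLΩ S.2 (Hilb20.dimLT_subobject hdE S.1) (Hilb20.isHilbPoly_hp Ω hLΩ S.2)
  obtain ⟨T, hT, hTmax⟩ := WellFounded.has_min (wellFounded_gt (α := Hilb20.CohSub EΩ)) {S | P S}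
    ⟨⟨⊥, Hilb20.isCoh_bot _⟩, by
      show alpha d (Hilb20.hp Ω LΩ ((⊥ : Subobject EΩ) : (Curv2.bc k X Ω).Modules)) = 0
      rw [Hilb20.hp_bot Ω hLΩ EΩ]
      simp [alpha]⟩
  have hgreat : ∀ (G : (Curv2.bc k X Ω).Modules) (κ : G ⟶ EΩ) [Mono κ], Coh.IsCoh G →
      ∀ pG, ShStab.IsHilbPoly Ω (Curv2.bc k X Ω) LΩ G pG → alpha d pG = 0 → Subobject.mk κ ≤ T.1 := by
    intro G κ _ hG pG hpG h0
    let S : Hilb20.CohSub EΩ := ⟨Subobject.mk κ, QCoh.isCoh_of_iso (Subobject.underlyingIso κ).symm hG⟩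
    have hS : alpha d (Hilb20.hp Ω LΩ (S.1 : (Curv2.bc k X Ω).Modules)) = 0 := by
      rw [Hilb20.hp_eq Ω hLΩ S.2 (Hilb20.isHilbPoly_congr (Subobject.underlyingIso κ).symm hpG)]
      exact h0
    let U : Hilb20.CohSub EΩ := ⟨T.1 ⊔ S.1, Hilb20.isCoh_sup hEΩ T.2 S.2⟩
    have hU : P U := by
      have h := congrArg (alpha d) (Hilb20.hp_valuation Ω hLΩ hEΩ T S)
      rw [Hilb20.alpha_add, Hilb20.alpha_add, hS, show alpha d _ = 0 from hT] at h
      have h1 := hnn U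
      have h2 := hnn ⟨T.1 ⊓ S.1, Hilb20.isCoh_inf hEΩ T.2 S.2⟩
      show alpha d (Hilb20.hp Ω LΩ (U.1 : (Curv2.bc k X Ω).Modules)) = 0
      linarith
    have hUT : U = T := by
      by_contra hne
      exact hTmax U hU (lt_of_le_of_ne (show T.1 ≤ U.1 from le_sup_left) (Ne.symm hne))
    exact le_sup_right.trans_eq (congrArg Subtype.val hUT)
  have hle := hgreat F ι hF pF hpF hα
  have hpT := Hilb20.isHilbPoly_hp Ω hLΩ T.2
  obtain ⟨pE, hpE⟩ := Hilb20.exists_isHilbPoly_pure (k := k) hL hE.1 hE.2.2.1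
  have hTz : IsZero (T.1 : (Curv2.bc k X Ω).Modules) := by
    refine (bound_of_invariant Ω hL hE hpE T.2 T.1.arrow (fun σ => ?_) hpT).1.resolve_right
      (by rw [show alpha d _ = 0 from hT]; exact lt_irrefl _)
    obtain ⟨hm, hc, hp⟩ := exists_bigger σ hL T.1.arrow T.2 hpT
    haveI := hm
    have h := hgreat _ ((Scheme.Modules.pullback (bcHom k X σ)).map T.1.arrow ≫ (θ k X σ).hom.app E) hc _ hp hT
    exact ⟨Subobject.ofMkLE _ _ h, Subobject.ofMkLE_arrow _⟩
  haveI : Mono (Subobject.ofMkLE ι T.1 hle) := mono_of_mono_fac (Subobject.ofMkLE_arrow hle)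
  exact IsZero.of_mono (Subobject.ofMkLE ι T.1 hle) hTz

theorem isPure_closed (hL : CohB1.IsAmple L) (hE : ShStab.IsSemistable k X L E d) :
    ShStab.IsPure (Curv2.bc k X Ω) EΩ d := by
  haveI := Euler.isNoetherian_of_proper (X := X) k
  haveI := Hilb20.isProper_bc (X := X) k Ω
  haveI := Euler.isNoetherian_of_proper (X := Curv2.bc k X Ω) Ω
  have hdE := dimLT_bc (k := k) Ω hL hE.1 (Hilb20.isPure_self_dimLT hE.1 hE.2.2.1)
  intro F ι hι hF h0
  haveI := hι
  have hdF : DimLT (CohB1.support F) (d + 1) := hdE.mono (QCoh.support_subset_of_mono ι)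
  have hnF : ¬ DimLT (CohB1.support F) d := fun h => by
    obtain ⟨pF, hpF⟩ := Hilb20.exists_isHilbPoly (k := Ω) (isAmple_bc Ω hL) hF h
    exact h0 (eq_bot_of_alpha_eq_zero Ω hL hE hF ι hpF (Hilb20.alpha_eq_zero (isAmple_bc Ω hL) hF h hpF))
  refine le_antisymm (Snapper.dim_le_of_dimLT (QCoh.isClosed_support_of_isCoh hF) hdF) ?_
  simp only [DimLT, not_forall, not_lt] at hnF
  obtain ⟨l, hl, hle⟩ := hnF
  exact le_trans (by exact_mod_cast hle) (Snapper.length_le_dim _ l hl)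

theorem bound_closed (hL : CohB1.IsAmple L) (hE : ShStab.IsSemistable k X L E d) {pE : ℚ[X]}
    (hpE : ShStab.IsHilbPoly k X L E pE) {G : (Curv2.bc k X Ω).Modules} (κ : G ⟶ EΩ) [Mono κ] (hG : Coh.IsCoh G)
    {pG : ℚ[X]} (hpG : ShStab.IsHilbPoly Ω (Curv2.bc k X Ω) LΩ G pG) :
    (IsZero G ∨ 0 < alpha d pG) ∧ RedLE d pG pE := by
  haveI := Euler.isNoetherian_of_proper (X := X) k
  haveI := Hilb20.isProper_bc (X := X) k Ω
  haveI := Euler.isNoetherian_of_proper (X := Curv2.bc k X Ω) Ω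
  have hLΩ := isAmple_bc (k := k) (X := X) Ω hL
  have hEΩ := Hilb20.isCoh_pullback_bc k Ω hE.1
  have hp := isPure_closed Ω hL hE
  by_cases hz : IsZero G
  · refine ⟨Or.inl hz, ?_⟩
    rw [Hilb20.isHilbPoly_unique hpG (Hilb20.isHilbPoly_of_isZero hz)]
    exact ⟨0, fun m _ => by simp [alpha]⟩
  have hαG := Hilb20.alpha_pos_of_pure hLΩ hp κ hG hz hpG
  refine ⟨Or.inr hαG, ?_⟩
  obtain ⟨F, ι, hι, hF, hF0, hmax⟩ := Groth.Agent.S15200.result Ω (Curv2.bc k X Ω) _ hLΩ d EΩ hEΩ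
    (fun h => hE.2.1 (Hilb20.isZero_of_pullback_bc k Ω h)) hp
  haveI := hι
  obtain ⟨pF, hpF⟩ := Hilb20.exists_isHilbPoly_sub (k := Ω) hLΩ hp ι hF
  have hαF := Hilb20.alpha_pos_of_pure hLΩ hp ι hF hF0 hpF
  refine Hilb20.redLE_trans hαG.le hαF (Hilb20.alpha_pos_self hL hE.1 hE.2.1 hE.2.2.1 hpE).le
    (hmax G κ inferInstance hG hz pF pG hpF hpG).1 (bound_of_invariant Ω hL hE hpE hF ι (fun σ => ?_) hpF).2
  obtain ⟨hm, hc, hpσ⟩ := exists_bigger σ hL ι hF hpF
  haveI := flat_bcHom k X σ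
  haveI := surjective_bcHom k X σ
  obtain ⟨φ, hφ⟩ := (hmax _ _ hm hc (fun h => hF0 (isZero_of_pullback (bcHom k X σ) h)) pF pF hpF hpσ).2
    (Hilb20.redEq_of_eq rfl)
  exact ⟨φ, hφ⟩

end Closed

section General

variable (K : Type u) [Field K] [Algebra k K]

theorem bound_bc (hL : CohB1.IsAmple L) (hE : ShStab.IsSemistable k X L E d) {pE : ℚ[X]}
    (hpE : ShStab.IsHilbPoly k X L E pE) {F : (Curv2.bc k X K).Modules}
    (ι : F ⟶ (Scheme.Modules.pullback (Curv2.bcFst k X K)).obj E) [Mono ι] (hF : Coh.IsCoh F) {pF : ℚ[X]}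
    (hpF : ShStab.IsHilbPoly K (Curv2.bc k X K) ((Scheme.Modules.pullback (Curv2.bcFst k X K)).obj L) F pF) :
    (IsZero F ∨ 0 < alpha d pF) ∧ RedLE d pF pE := by
  let j : K →ₐ[k] AlgebraicClosure K := IsScalarTower.toAlgHom k K (AlgebraicClosure K)
  obtain ⟨hm, hc, hp⟩ := exists_bigger j hL ι hF hpF
  haveI := hm
  haveI := flat_bcHom k X j
  haveI := surjective_bcHom k X j
  obtain ⟨h1, h2⟩ := bound_closed (AlgebraicClosure K) hL hE hpE
    ((Scheme.Modules.pullback (bcHom k X j)).map ι ≫ (θ k X j).hom.app E) hc hp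
  exact ⟨h1.imp (isZero_of_pullback (bcHom k X j)) id, h2⟩

/-- **Semistability is preserved by extension of the ground field.** -/
theorem isSemistable_bc (hL : CohB1.IsAmple L) (hE : ShStab.IsSemistable k X L E d) :
    ShStab.IsSemistable K (Curv2.bc k X K) ((Scheme.Modules.pullback (Curv2.bcFst k X K)).obj L)
      ((Scheme.Modules.pullback (Curv2.bcFst k X K)).obj E) d := by
  haveI := Euler.isNoetherian_of_proper (X := X) k
  haveI := Hilb20.isProper_bc (X := X) k K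
  haveI := Euler.isNoetherian_of_proper (X := Curv2.bc k X K) K
  have hdE := dimLT_bc (k := k) K hL hE.1 (Hilb20.isPure_self_dimLT hE.1 hE.2.2.1)
  obtain ⟨pE, hpE⟩ := Hilb20.exists_isHilbPoly_pure (k := k) hL hE.1 hE.2.2.1
  refine ⟨Hilb20.isCoh_pullback_bc k K hE.1, fun h => hE.2.1 (Hilb20.isZero_of_pullback_bc k K h),
    fun F ι hι hF h0 => ?_, fun F ι hι hF _ _ pF pE' hpF hpE' => ?_⟩
  · haveI := hι
    have hdF : DimLT (CohB1.support F) (d + 1) := hdE.mono (QCoh.support_subset_of_mono ι)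
    have hnF : ¬ DimLT (CohB1.support F) d := fun h => by
      obtain ⟨pF, hpF⟩ := Hilb20.exists_isHilbPoly (k := K) (isAmple_bc K hL) hF h
      exact ((bound_bc K hL hE hpE ι hF hpF).1.resolve_left h0).ne'
        (Hilb20.alpha_eq_zero (isAmple_bc K hL) hF h hpF)
    refine le_antisymm (Snapper.dim_le_of_dimLT (QCoh.isClosed_support_of_isCoh hF) hdF) ?_
    simp only [DimLT, not_forall, not_lt] at hnF
    obtain ⟨l, hl, hle⟩ := hnF
    exact le_trans (by exact_mod_cast hle) (Snapper.length_le_dim _ l hl)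
  · haveI := hι
    rw [Hilb20.isHilbPoly_unique hpE' (Hilb20.isHilbPoly_bc k K hL.1 hE.1 hpE)]
    exact (bound_bc K hL hE hpE ι hF hpF).2

end General

end GrothLib.GeomSS
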