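import Groth.Agent.Lib.Hilb20.FieldExt
import Groth.Agent.Lib.FunMor20.Scalar
import Groth.Prelude.Def_KLin

/-!
# Maps between extensions of the ground field
-/

set_option autoImplicit false
set_option linter.style.haveILetI false
set_option linter.unusedSectionVars false
set_option maxHeartbeats 1000000
set_option backward.isDefEq.respectTransparency.types false

universe u

open CategoryTheory CategoryTheory.Limits AlgebraicGeometry Polynomial

noncomputable section

namespace GrothLib.GeomSS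

theorem nonempty_tensorPow_congr {Y : Scheme.{u}} {L L' : Y.Modules} (e : L ≅ L') :
    ∀ m : ℕ, Nonempty (CohB1.tensorPow L m ≅ CohB1.tensorPow L' m)
  | 0 => ⟨Iso.refl _⟩
  | m + 1 => (nonempty_tensorPow_congr e m).map fun i => Ample.LineData.tensorModMapIso i e

section General

variable {k K : Type u} [Field k] [Field K] (φ : k →+* K) {X Y : Scheme.{u}} [X.Over (Spec (CommRingCat.of k))]
  [Y.Over (Spec (CommRingCat.of K))] (g : Y ⟶ X)

theorem flat_of_sq (H : IsPullback g (Y ↘ Spec (CommRingCat.of K)) (X ↘ Spec (CommRingCat.of k))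
    (Spec.map (CommRingCat.ofHom φ))) : Flat g := by
  letI := φ.toAlgebra
  haveI : Flat (Spec.map (CommRingCat.ofHom φ)) := by
    rw [HasRingHomProperty.Spec_iff (P := @Flat)]
    exact RingHom.flat_algebraMap_iff.2 (inferInstance : Module.Flat k K)
  exact MorphismProperty.of_isPullback H.flip inferInstance

theorem surjective_of_sq (H : IsPullback g (Y ↘ Spec (CommRingCat.of K)) (X ↘ Spec (CommRingCat.of k))
    (Spec.map (CommRingCat.ofHom φ))) : Surjective g := by
  haveI : Surjective (Spec.map (CommRingCat.ofHom φ)) := ⟨fun x =>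
    ⟨⟨⊥, Ideal.isPrime_bot⟩, Subsingleton.elim (α := PrimeSpectrum k) _ _⟩⟩
  exact MorphismProperty.of_isPullback H.flip inferInstance

/-- Euler characteristics do not change along a cartesian square over a map of fields. -/
theorem euler_of_sq [IsProper (X ↘ Spec (CommRingCat.of k))]
    (H : IsPullback g (Y ↘ Spec (CommRingCat.of K)) (X ↘ Spec (CommRingCat.of k)) (Spec.map (CommRingCat.ofHom φ)))
    (M : X.Modules) [M.IsQuasicoherent] :
    Curv2.euler K Y ((Scheme.Modules.pullback g).obj M) = Curv2.euler k X M := by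
  letI := φ.toAlgebra
  haveI := Euler.isNoetherian_of_proper (X := X) k
  haveI : X.IsSeparated := ⟨by
    rw [← terminal.comp_from (X ↘ Spec (CommRingCat.of k))]; infer_instance⟩
  unfold Curv2.euler
  refine finsum_congr fun i => ?_
  congr 2
  obtain ⟨e⟩ := BCCoh.exists_flatBC φ (RingHom.flat_algebraMap_iff.2 (inferInstance : Module.Flat k K))
    (X ↘ Spec (CommRingCat.of k)) (Y ↘ Spec (CommRingCat.of K)) g H M i
  letI := BCCoh.modHH (X ↘ Spec (CommRingCat.of k)) M i
  letI := BCCoh.modHH (Y ↘ Spec (CommRingCat.of K)) ((Scheme.Modules.pullback g).obj M) i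
  have h1 := e.finrank_eq
  rw [Module.finrank_baseChange] at h1
  exact h1.symm

theorem isHilbPoly_of_sq [IsProper (X ↘ Spec (CommRingCat.of k))]
    (H : IsPullback g (Y ↘ Spec (CommRingCat.of K)) (X ↘ Spec (CommRingCat.of k)) (Spec.map (CommRingCat.ofHom φ)))
    {L E : X.Modules} {L' E' : Y.Modules} (eL : (Scheme.Modules.pullback g).obj L ≅ L')
    (eE : (Scheme.Modules.pullback g).obj E ≅ E') {P : ℚ[X]} (hL : PicF.IsInvertible L) (hE : Coh.IsCoh E)
    (hP : ShStab.IsHilbPoly k X L E P) : ShStab.IsHilbPoly K Y L' E' P := by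
  intro m
  obtain ⟨p⟩ := Ample.nonempty_pullback_tensorPow g hL m
  haveI : (ShStab.twist X L E m).IsQuasicoherent :=
    VA.isQCoh_tensor hE.1 (Euler.isCoh_of_isInvertible (Ample.isInvertible_tensorPow hL m)).1
  obtain ⟨q⟩ := nonempty_tensorPow_congr eL m
  let j : (Scheme.Modules.pullback g).obj (ShStab.twist X L E m) ≅ ShStab.twist Y L' E' m :=
    OX.pullTensorIso g E (CohB1.tensorPow L m) ≪≫ Ample.LineData.tensorModMapIso eE (p ≪≫ q)
  rw [← Euler.euler_of_iso K j, euler_of_sq φ g H]
  exact hP m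

end General

variable (k : Type u) [Field k] (X : Scheme.{u}) [X.Over (Spec (CommRingCat.of k))]
variable {K₁ K : Type u} [Field K₁] [Field K] [Algebra k K₁] [Algebra k K] (j : K₁ →ₐ[k] K)

/-- The map of extensions along a map of fields over `k`. -/
def bcHom : Curv2.bc k X K ⟶ Curv2.bc k X K₁ :=
  pullback.lift (Curv2.bcFst k X K) (Curv2.bcSnd k X K ≫ Spec.map (CommRingCat.ofHom j.toRingHom)) (by
    rw [Category.assoc, ← Spec.map_comp, pullback.condition]
    congr 2
    rw [← CommRingCat.ofHom_comp]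
    exact congrArg CommRingCat.ofHom j.comp_algebraMap.symm)

@[simp]
theorem bcHom_fst : bcHom k X j ≫ Curv2.bcFst k X K₁ = Curv2.bcFst k X K := pullback.lift_fst _ _ _

theorem bcHom_snd : bcHom k X j ≫ Curv2.bcSnd k X K₁ = Curv2.bcSnd k X K ≫ Spec.map (CommRingCat.ofHom j.toRingHom) :=
  pullback.lift_snd _ _ _

theorem isPullback_bcHom : IsPullback (bcHom k X j) (Curv2.bc k X K ↘ Spec (CommRingCat.of K))
    (Curv2.bc k X K₁ ↘ Spec (CommRingCat.of K₁)) (Spec.map (CommRingCat.ofHom j.toRingHom)) := by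
  refine IsPullback.of_right ?_ (bcHom_snd k X j)
    (IsPullback.of_hasPullback (X ↘ Spec (CommRingCat.of k)) (Spec.map (CommRingCat.ofHom (algebraMap k K₁))))
  rw [← Spec.map_comp, bcHom_fst, ← CommRingCat.ofHom_comp, AlgHom.toRingHom_eq_coe, j.comp_algebraMap]
  exact IsPullback.of_hasPullback _ _

theorem flat_bcHom : Flat (bcHom k X j) := flat_of_sq _ _ (isPullback_bcHom k X j)

theorem surjective_bcHom : Surjective (bcHom k X j) := surjective_of_sq _ _ (isPullback_bcHom k X j)

/-- Pulling back in two steps. -/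
def θ : Scheme.Modules.pullback (Curv2.bcFst k X K₁) ⋙ Scheme.Modules.pullback (bcHom k X j) ≅
    Scheme.Modules.pullback (Curv2.bcFst k X K) :=
  Scheme.Modules.pullbackComp (bcHom k X j) (Curv2.bcFst k X K₁) ≪≫
    eqToIso (congrArg Scheme.Modules.pullback (bcHom_fst k X j))

theorem map_smul_bcHom {A B : (Curv2.bc k X K₁).Modules} (c : K₁) (f : A ⟶ B) :
    (Scheme.Modules.pullback (bcHom k X j)).map (c • f) = j c • (Scheme.Modules.pullback (bcHom k X j)).map f := by
  rw [KLin.smul_def, KLin.smul_def, Functor.map_comp]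
  congr 1
  refine (FunMor20.pullback_map_smulModΓ (bcHom k X j) A _).trans ?_
  show Formal.smulModΓ _ _ = Formal.smulModΓ _ _
  congr 1
  show ((Curv2.bcSnd k X K₁).appTop ≫ (bcHom k X j).appTop) ((Scheme.ΓSpecIso (CommRingCat.of K₁)).inv c) = _
  rw [← Scheme.Hom.comp_appTop, bcHom_snd, Scheme.Hom.comp_appTop, ConcreteCategory.comp_apply]
  refine congrArg (Curv2.bcSnd k X K).appTop ?_
  exact (congr($(Scheme.ΓSpecIso_inv_naturality (CommRingCat.ofHom j.toRingHom)) c)).symm

theorem isProper_bcSnd [IsProper (X ↘ Spec (CommRingCat.of k))] :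
    IsProper (Curv2.bc k X K ↘ Spec (CommRingCat.of K)) := Hilb20.isProper_bc k K

theorem isHilbPoly_bcHom [IsProper (X ↘ Spec (CommRingCat.of k))] {L E : (Curv2.bc k X K₁).Modules}
    {L' E' : (Curv2.bc k X K).Modules} (eL : (Scheme.Modules.pullback (bcHom k X j)).obj L ≅ L')
    (eE : (Scheme.Modules.pullback (bcHom k X j)).obj E ≅ E') {P : ℚ[X]} (hL : PicF.IsInvertible L)
    (hE : Coh.IsCoh E) (hP : ShStab.IsHilbPoly K₁ (Curv2.bc k X K₁) L E P) :
    ShStab.IsHilbPoly K (Curv2.bc k X K) L' E' P :=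
  haveI := isProper_bcSnd (K := K₁) k X
  isHilbPoly_of_sq _ _ (isPullback_bcHom k X j) eL eE hL hE hP

end GrothLib.GeomSS
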