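import Mathlib.FieldTheory.IsAlgClosed.Basic
import Mathlib.RingTheory.AlgebraicIndependent.TranscendenceBasis
import Mathlib.RingTheory.AlgebraicIndependent.Transcendental
import Mathlib.LinearAlgebra.Finsupp.LinearCombination
import Mathlib.FieldTheory.IntermediateField.Adjoin.Basic

/-!
# Subspaces invariant under the endomorphisms of an algebraically closed extension
-/

set_option autoImplicit false
set_option linter.style.haveILetI false

universe u

noncomputable section

namespace GrothLib.GeomSS

open MvPolynomial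

/-- A copy of a field, to carry a second algebra structure. -/
def Twisted (Ω : Type u) : Type u := Ω

instance {Ω : Type u} [Field Ω] : Field (Twisted Ω) := inferInstanceAs (Field Ω)

instance {Ω : Type u} [Field Ω] [IsAlgClosed Ω] : IsAlgClosed (Twisted Ω) := inferInstanceAs (IsAlgClosed Ω)

theorem exists_endo_of_embeddings {k Ω R : Type u} [Field k] [Field Ω] [IsAlgClosed Ω] [Algebra k Ω] [CommRing R]
    [Algebra k R] (a b : R →ₐ[k] Ω) (ha : Function.Injective a) (hb : Function.Injective b)
    (halg : letI := a.toRingHom.toAlgebra; Algebra.IsAlgebraic R Ω) :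
    ∃ σ : Ω →ₐ[k] Ω, ∀ r, σ (a r) = b r := by
  letI algA : Algebra R Ω := a.toRingHom.toAlgebra
  haveI := halg
  haveI : FaithfulSMul R Ω := (faithfulSMul_iff_algebraMap_injective R Ω).2 ha
  letI algB : Algebra R (Twisted Ω) := (show R →+* Twisted Ω from b.toRingHom).toAlgebra
  haveI : FaithfulSMul R (Twisted Ω) := (faithfulSMul_iff_algebraMap_injective R (Twisted Ω)).2 hb
  haveI : IsDomain R := ha.isDomain
  let f : Ω →ₐ[R] Twisted Ω := IsAlgClosed.lift
  refine ⟨{ toRingHom := (show Ω →+* Ω from f.toRingHom), commutes' := fun c => ?_ }, fun r => f.commutes r⟩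
  have h := f.commutes (algebraMap k R c)
  show f (algebraMap k Ω c) = algebraMap k Ω c
  have e1 : algebraMap R Ω (algebraMap k R c) = algebraMap k Ω c := a.commutes c
  have e2 : algebraMap R (Twisted Ω) (algebraMap k R c) = algebraMap k Ω c := b.commutes c
  rw [e1] at h
  exact h.trans e2

/-- An element fixed by all endomorphisms of an algebraically closed field is algebraic. -/
theorem isAlgebraic_of_fixed {k Ω : Type u} [Field k] [Field Ω] [IsAlgClosed Ω] [Algebra k Ω] (z : Ω)
    (h : ∀ σ : Ω →ₐ[k] Ω, σ z = z) : IsAlgebraic k z := by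
  classical
  by_contra hz
  have hs : AlgebraicIndepOn k id ({z} : Set Ω) := algebraicIndependent_unique_type_iff.mpr hz
  obtain ⟨T, hzT, hT⟩ := exists_isTranscendenceBasis_superset hs
  let t₀ : T := ⟨z, hzT rfl⟩
  let e : MvPolynomial T k →ₐ[k] MvPolynomial T k := aeval fun t => if t = t₀ then X t + 1 else X t
  let e' : MvPolynomial T k →ₐ[k] MvPolynomial T k := aeval fun t => if t = t₀ then X t - 1 else X t
  have he : e'.comp e = AlgHom.id k _ := by
    refine MvPolynomial.algHom_ext fun t => ?_
    rw [AlgHom.comp_apply, AlgHom.id_apply]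
    by_cases ht : t = t₀ <;> simp [e, e', ht]
  let a : MvPolynomial T k →ₐ[k] Ω := aeval ((↑) : T → Ω)
  have ha : Function.Injective a := hT.1
  have hei : Function.Injective e :=
    Function.LeftInverse.injective (g := e') fun r => congrArg (fun φ : MvPolynomial T k →ₐ[k] MvPolynomial T k => φ r) he
  obtain ⟨σ, hσ⟩ := exists_endo_of_embeddings a (a.comp e) ha (ha.comp hei) (by
    letI := a.toRingHom.toAlgebra
    have hr : a.range = Algebra.adjoin k (Set.range ((↑) : T → Ω)) := (Algebra.adjoin_range_eq_range_aeval k _).symm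
    haveI := hT.isAlgebraic
    refine ⟨fun x => ?_⟩
    obtain ⟨q, hq0, hqx⟩ := Algebra.IsAlgebraic.isAlgebraic (R := Algebra.adjoin k (Set.range ((↑) : T → Ω))) x
    have hsub : ∀ c : Algebra.adjoin k (Set.range ((↑) : T → Ω)), ∃ r, a r = c.1 := fun c => by
      exact SetLike.le_def.1 hr.ge c.2
    choose g hg using hsub
    let ψ : Algebra.adjoin k (Set.range ((↑) : T → Ω)) →+* MvPolynomial T k :=
      { toFun := g
        map_one' := ha (by rw [hg, map_one]; rfl)
        map_mul' := fun x y => ha (by rw [hg, map_mul, hg, hg]; rfl)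
        map_zero' := ha (by rw [hg, map_zero]; rfl)
        map_add' := fun x y => ha (by rw [hg, map_add, hg, hg]; rfl) }
    have hψ : Function.Injective ψ := fun x y hxy => Subtype.ext (by rw [← hg x, ← hg y]; exact congrArg a hxy)
    refine ⟨q.map ψ, fun h0 => hq0 (Polynomial.map_injective ψ hψ (h0.trans (Polynomial.map_zero ψ).symm)), ?_⟩
    rw [Polynomial.aeval_def, Polynomial.eval₂_map]
    refine Eq.trans ?_ hqx
    rw [Polynomial.aeval_def]
    congr 1
    exact RingHom.ext fun c => hg c)
  have h1 := hσ (X t₀)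
  simp [a, e, h, t₀] at h1

variable {k Ω : Type u} [Field k] [Field Ω] [Algebra k Ω] {n : ℕ}

/-- A subspace stable under all endomorphisms is spanned by its fixed vectors. -/
theorem mem_span_fixed (V : Submodule Ω (Fin n → Ω))
    (hV : ∀ σ : Ω →ₐ[k] Ω, ∀ v ∈ V, (σ : Ω → Ω) ∘ v ∈ V) :
    ∀ v ∈ V, v ∈ Submodule.span Ω {w | w ∈ V ∧ ∀ i, ∀ σ : Ω →ₐ[k] Ω, σ (w i) = w i} := by
  classical
  suffices key : ∀ (m : ℕ) (v : Fin n → Ω), v ∈ V → (Finset.univ.filter fun i => v i ≠ 0).card ≤ m →
      v ∈ Submodule.span Ω {w | w ∈ V ∧ ∀ i, ∀ σ : Ω →ₐ[k] Ω, σ (w i) = w i} from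
    fun v hv => key _ v hv le_rfl
  intro m
  induction m with
  | zero =>
    intro v hv hc
    have : v = 0 := funext fun i => by
      by_contra hi
      have : i ∈ Finset.univ.filter fun i => v i ≠ 0 := Finset.mem_filter.2 ⟨Finset.mem_univ _, hi⟩
      rw [Finset.card_eq_zero.1 (Nat.le_zero.1 hc)] at this
      exact absurd this (Finset.notMem_empty _)
    rw [this]
    exact Submodule.zero_mem _
  | succ m ih =>
    intro v hv hc
    by_cases hw : ∃ w ∈ V, ∃ i, w i ≠ 0 ∧ v i ≠ 0 ∧ (Finset.univ.filter fun i => w i ≠ 0).card ≤ m ∧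
        ∀ j, v j = 0 → w j = 0
    · obtain ⟨w, hw, i, hwi, hvi, hwc, hsupp⟩ := hw
      have h1 := ih w hw hwc
      have h2 := ih (v - (v i / w i) • w) (Submodule.sub_mem _ hv (Submodule.smul_mem _ _ hw)) (by
        have hss : (Finset.univ.filter fun j => (v - (v i / w i) • w) j ≠ 0) ⊆
            (Finset.univ.filter fun j => v j ≠ 0).erase i := fun j hj => by
          simp only [Finset.mem_filter, Finset.mem_univ, true_and, Pi.sub_apply, Pi.smul_apply, smul_eq_mul] at hj
          refine Finset.mem_erase.2 ⟨fun hji => hj ?_, Finset.mem_filter.2 ⟨Finset.mem_univ _, fun hvj => hj ?_⟩⟩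
          · rw [hji, div_mul_cancel₀ _ hwi, sub_self]
          · rw [hvj, hsupp j hvj, mul_zero, sub_zero]
        have := (Finset.card_le_card hss).trans_eq
          (Finset.card_erase_of_mem (Finset.mem_filter.2 ⟨Finset.mem_univ _, hvi⟩))
        omega)
      rw [show v = (v - (v i / w i) • w) + (v i / w i) • w from (sub_add_cancel _ _).symm]
      exact Submodule.add_mem _ h2 (Submodule.smul_mem _ _ h1)
    · by_cases hz : ∃ i, v i ≠ 0
      · obtain ⟨i, hi⟩ := hz
        let w := (v i)⁻¹ • v
        have hwV : w ∈ V := Submodule.smul_mem _ _ hv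
        have hfix : ∀ j, ∀ σ : Ω →ₐ[k] Ω, σ (w j) = w j := by
          intro j σ
          by_contra hne
          refine hw ⟨(σ : Ω → Ω) ∘ w - w, Submodule.sub_mem _ (hV σ w hwV) hwV, j, sub_ne_zero.2 hne, ?_, ?_, ?_⟩
          · intro hvj
            exact hne (by simp [w, hvj])
          · have hss : (Finset.univ.filter fun l => ((σ : Ω → Ω) ∘ w - w) l ≠ 0) ⊆
                (Finset.univ.filter fun l => v l ≠ 0).erase i := fun l hl => by
              simp only [Finset.mem_filter, Finset.mem_univ, true_and, Pi.sub_apply, Function.comp_apply] at hl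
              refine Finset.mem_erase.2 ⟨fun hli => hl ?_, Finset.mem_filter.2 ⟨Finset.mem_univ _, fun hvl => hl ?_⟩⟩
              · simp [w, hli, hi]
              · simp [w, hvl]
            have := (Finset.card_le_card hss).trans_eq
              (Finset.card_erase_of_mem (Finset.mem_filter.2 ⟨Finset.mem_univ _, hi⟩))
            omega
          · intro l hl
            simp [w, hl]
        rw [show v = v i • w from by simp [w, hi]]
        exact Submodule.smul_mem _ _ (Submodule.subset_span ⟨hwV, hfix⟩)
      · simp only [not_exists, not_not] at hz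
        rw [show v = 0 from funext hz]
        exact Submodule.zero_mem _

end GrothLib.GeomSS
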