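import Groth.Agent.Lib.GeomSS.Setup
import Groth.Agent.Lib.GeomSS.FixedField
import Groth.Agent.Lib.ASBun21.Descent
import Groth.Agent.Lib.GrTilde.NegTwist
import Groth.Agent.Lib.Ample.CocPullback
import Groth.Agent.Lib.CurveMult.GGCurve
import Groth.Agent.Lib.QCoh.DevissageRoots

/-!
# Invariant subsheaves descend to a finite extension
-/

set_option autoImplicit false
set_option linter.style.haveILetI false
set_option linter.unusedSectionVars false
set_option maxHeartbeats 1000000
set_option backward.isDefEq.respectTransparency.types false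

universe u

open CategoryTheory CategoryTheory.Limits AlgebraicGeometry Polynomial

noncomputable section

namespace GrothLib.GeomSS

variable {k : Type u} [Field k] {X : Scheme.{u}} [X.Over (Spec (CommRingCat.of k))]

/-- The pullback of a morphism to an extension. -/
abbrev pm (k : Type u) [Field k] {X : Scheme.{u}} [X.Over (Spec (CommRingCat.of k))] (K : Type u) [Field K] [Algebra k K] {A B : X.Modules} (f : A ⟶ B) :=
  (Scheme.Modules.pullback (Curv2.bcFst k X K)).map f

instance additive_pullback {Y Z : Scheme.{u}} (g : Y ⟶ Z) : (Scheme.Modules.pullback g).Additive :=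
  (Scheme.Modules.pullbackPushforwardAdjunction g).left_adjoint_additive

theorem inv_comap {Y Z : Scheme.{u}} (c : Ample.Cocycle Z) (g : Y ⟶ Z) : c.inv.comap g = (c.comap g).inv := by
  simp only [Ample.Cocycle.inv, Ample.Cocycle.comap]
  congr 1
  funext i k
  exact Ample.Cocycle.appLE_G c g k i _ _ _

theorem isCoh_tensorMod {Y : Scheme.{u}} [IsLocallyNoetherian Y] {M L : Y.Modules} (hM : Coh.IsCoh M)
    (hL : FlatMod.IsFinLocFree L) : Coh.IsCoh (CohB1.tensorMod M L) :=
  Euler.isCoh_tF hM hL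

section Comb

variable (K : Type u) [Field K] [Algebra k K] {G E : X.Modules} {N : ℕ}

variable (k) in
/-- The combination of pulled back morphisms. -/
def comb (b : Fin N → (G ⟶ E)) :
    (Fin N → K) →ₗ[K] ((Scheme.Modules.pullback (Curv2.bcFst k X K)).obj G ⟶
      (Scheme.Modules.pullback (Curv2.bcFst k X K)).obj E) :=
  Fintype.linearCombination K fun i => pm k K (b i)

theorem comb_apply (b : Fin N → (G ⟶ E)) (c : Fin N → K) : comb k K b c = ∑ i, c i • pm k K (b i) :=
  Fintype.linearCombination_apply K _ c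

theorem comb_surjective [IsProper (X ↘ Spec (CommRingCat.of k))] (hG : Coh.IsCoh G) (hE : Coh.IsCoh E)
    (b : Module.Basis (Fin N) k (G ⟶ E)) : Function.Surjective (comb k K b) := by
  classical
  intro ψ
  haveI := Euler.isNoetherian_of_proper (X := X) k
  haveI := hG.1
  haveI := hE.1
  obtain ⟨s, φ, hφ⟩ := ASBun21.exists_expansion (X ↘ Spec (CommRingCat.of k)) K (Module.Free.chooseBasis k K) ψ hG.2
  suffices ψ ∈ LinearMap.range (comb k K b) from this
  rw [hφ]
  refine Submodule.sum_mem _ fun i _ => Submodule.smul_mem _ _ ?_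
  rw [← b.sum_repr (φ i), Functor.map_sum]
  refine Submodule.sum_mem _ fun l _ => ?_
  have e : (Scheme.Modules.pullback (BrSev.proj (X ↘ Spec (CommRingCat.of k)) K)).map (b.repr (φ i) l • b l) =
      algebraMap k K (b.repr (φ i) l) • pm k K (b l) := ASBun21.map_smul_base _ K _ _
  rw [e]
  exact Submodule.smul_mem _ _ ⟨Pi.single l 1, by simp [comb, Fintype.linearCombination_apply_single]⟩

theorem map_comb_bcHom {K₁ : Type u} [Field K₁] [Algebra k K₁] (j : K₁ →ₐ[k] K) (b : Fin N → (G ⟶ E))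
    (c : Fin N → K₁) :
    (Scheme.Modules.pullback (bcHom k X j)).map (comb k K₁ b c) ≫ (θ k X j).hom.app E =
      (θ k X j).hom.app G ≫ comb k K b fun i => j (c i) := by
  simp only [comb_apply, Functor.map_sum, Preadditive.sum_comp, Preadditive.comp_sum]
  refine Finset.sum_congr rfl fun i _ => ?_
  rw [map_smul_bcHom, CategoryTheory.Linear.smul_comp, CategoryTheory.Linear.comp_smul]
  exact congrArg _ ((θ k X j).hom.naturality (b i))

end Comb

variable [IsProper (X ↘ Spec (CommRingCat.of k))]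

/-- A coherent module upstairs is generated by maps from one module downstairs. -/
theorem exists_generating_homs (K : Type u) [Field K] [Algebra k K] {L : X.Modules} (hL : CohB1.IsAmple L)
    (F : (Curv2.bc k X K).Modules) (hF : Coh.IsCoh F) :
    ∃ (G : X.Modules) (r : ℕ) (ψ : Fin r → ((Scheme.Modules.pullback (Curv2.bcFst k X K)).obj G ⟶ F)),
      Coh.IsCoh G ∧ ∀ {W : (Curv2.bc k X K).Modules} (g g' : F ⟶ W), (∀ i, ψ i ≫ g = ψ i ≫ g') → g = g' := by
  haveI := Euler.isNoetherian_of_proper (X := X) k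
  haveI := Hilb20.isProper_bc (X := X) k K
  haveI := Euler.isNoetherian_of_proper (X := Curv2.bc k X K) K
  obtain ⟨c, ⟨e⟩⟩ := Ample.exists_cocycle hL.1
  haveI : IsAffineHom (Curv2.bcFst k X K) := MorphismProperty.pullback_fst _ _ inferInstance
  let c' := c.comap (Curv2.bcFst k X K)
  obtain ⟨e'⟩ := c.nonempty_pullback_iso (Curv2.bcFst k X K) e
  have hamp := ((c'.isAmple_iff e').1 (Ample.isAmple_pullback_of_isAffineHom (Curv2.bcFst k X K) hL)).2
  haveI := hF.1
  have hfin : ∀ p : Curv2.bc k X K, ∃ O : (Curv2.bc k X K).Opens, p ∈ O ∧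
      ∀ W : (Curv2.bc k X K).Opens, IsAffineOpen W → W ≤ O → Module.Finite Γ(Curv2.bc k X K, W) Γ(F, W) :=
    fun p => ⟨⊤, trivial, fun W hW _ => QCoh.moduleFinite_of_isFiniteType F hF.2 hW⟩
  obtain ⟨n₀, h⟩ := c'.eventually_isGloballyGenerated F hamp hfin
  obtain ⟨ι, s, hs⟩ := CurveMult.spanned_of_isGloballyGenerated (h n₀ le_rfl)
  have hT : Coh.IsCoh (c'.modTwist F n₀) := by
    obtain ⟨t⟩ := c'.nonempty_tensor_modTwist F n₀
    exact QCoh.isCoh_of_iso t
      (isCoh_tensorMod (L := c'.twist n₀) hF (Euler.isFinLocFree_of_isInvertible (c'.isInvertible_of_iso (Iso.refl (c'.twist n₀)))))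
  haveI := hT.1
  obtain ⟨r, t', ht'⟩ := Ample.exists_finite_spanned _
    (fun p => ⟨⊤, trivial, fun W hW _ => QCoh.moduleFinite_of_isFiniteType _ hT.2 hW⟩) s hs
  obtain ⟨p, hp⟩ := c'.exists_epi_inv_twist F (fun i => s (t' i)) ht'
  let G := c.inv.twist n₀
  obtain ⟨eG⟩ := c.inv.nonempty_pullback_twist (Curv2.bcFst k X K) n₀
  obtain ⟨eG'⟩ : Nonempty ((Scheme.Modules.pullback (Curv2.bcFst k X K)).obj G ≅ c'.inv.twist n₀) :=
    inv_comap c (Curv2.bcFst k X K) ▸ ⟨eG⟩
  refine ⟨G, r, fun i => eG'.hom ≫ Sigma.ι (fun _ : Fin r => c'.inv.twist n₀) i ≫ p,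
    Euler.isCoh_of_isInvertible (c.inv.isInvertible_of_iso (Iso.refl _)), fun g g' hgg => ?_⟩
  haveI := hp
  rw [← cancel_epi p]
  refine Sigma.hom_ext _ _ fun i => ?_
  have h1 := hgg i
  simp only [Category.assoc, cancel_epi] at h1
  exact h1

/-- **Descent.** A coherent submodule stable under all endomorphisms of the field is defined over a finite
extension. -/
theorem exists_descend {L : X.Modules} (hL : CohB1.IsAmple L) (Ω : Type u) [Field Ω] [IsAlgClosed Ω] [Algebra k Ω]
    {E : X.Modules} (hE : Coh.IsCoh E) {F : (Curv2.bc k X Ω).Modules} (hF : Coh.IsCoh F)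
    (ι : F ⟶ (Scheme.Modules.pullback (Curv2.bcFst k X Ω)).obj E) [Mono ι]
    (hinv : ∀ σ : Ω →ₐ[k] Ω, ∃ ψ : (Scheme.Modules.pullback (bcHom k X σ)).obj F ⟶ F,
      ψ ≫ ι = (Scheme.Modules.pullback (bcHom k X σ)).map ι ≫ (θ k X σ).hom.app E) :
    ∃ (K₁ : IntermediateField k Ω) (_ : FiniteDimensional k K₁) (F₁ : (Curv2.bc k X K₁).Modules)
      (ι₁ : F₁ ⟶ (Scheme.Modules.pullback (Curv2.bcFst k X K₁)).obj E), Mono ι₁ ∧ Coh.IsCoh F₁ ∧
        Nonempty ((Scheme.Modules.pullback (bcHom k X K₁.val)).obj F₁ ≅ F) := by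
  classical
  haveI := Euler.isNoetherian_of_proper (X := X) k
  obtain ⟨G, r, ψ, hG, hgen⟩ := exists_generating_homs (k := k) Ω hL F hF
  haveI := ASBun21.finite_hom k hG hE
  let N := Module.finrank k (G ⟶ E)
  let b : Module.Basis (Fin N) k (G ⟶ E) := Module.finBasis k (G ⟶ E)
  let V : Submodule Ω (Fin N → Ω) :=
    LinearMap.ker ((CategoryTheory.Linear.rightComp Ω _ (cokernel.π ι)).comp (comb k Ω b))
  have hVmem : ∀ c, c ∈ V ↔ comb k Ω b c ≫ cokernel.π ι = 0 := fun c => LinearMap.mem_ker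
  have hV : ∀ σ : Ω →ₐ[k] Ω, ∀ v ∈ V, (σ : Ω → Ω) ∘ v ∈ V := by
    intro σ v hv
    rw [hVmem] at hv ⊢
    obtain ⟨φ, hφ⟩ := hinv σ
    let g := Abelian.monoLift ι (comb k Ω b v) hv
    have hg : g ≫ ι = comb k Ω b v := Abelian.monoLift_comp _ _ _
    have h1 : (θ k X σ).hom.app G ≫ comb k Ω b ((σ : Ω → Ω) ∘ v) =
        (Scheme.Modules.pullback (bcHom k X σ)).map g ≫ φ ≫ ι := by
      rw [hφ, ← Category.assoc ((Scheme.Modules.pullback (bcHom k X σ)).map g), ← Functor.map_comp, hg]
      exact (map_comb_bcHom Ω σ b v).symm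
    rw [← cancel_epi ((θ k X σ).hom.app G), ← Category.assoc, h1]
    simp
  choose v hv using fun i => comb_surjective Ω hG hE b (ψ i ≫ ι)
  have hvV : ∀ i, v i ∈ V := fun i => by rw [hVmem, hv, Category.assoc, cokernel.condition, Limits.comp_zero]
  choose T hTsub hT using fun i => Submodule.mem_span_finite_of_mem_span (mem_span_fixed V hV (v i) (hvV i))
  let S : Finset (Fin N → Ω) := Finset.univ.biUnion T
  have hS : ∀ w ∈ S, w ∈ V ∧ ∀ i, ∀ σ : Ω →ₐ[k] Ω, σ (w i) = w i := fun w hw => by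
    obtain ⟨i, -, hi⟩ := Finset.mem_biUnion.1 hw
    exact hTsub i hi
  let co : Set Ω := Set.range fun p : (↥S) × Fin N => (p.1.1 : Fin N → Ω) p.2
  haveI : Finite co := Set.finite_range _
  let K₁ : IntermediateField k Ω := IntermediateField.adjoin k co
  haveI hfd : FiniteDimensional k K₁ := IntermediateField.finiteDimensional_adjoin fun x hx => by
    obtain ⟨p, rfl⟩ := hx
    exact (isAlgebraic_of_fixed _ ((hS p.1.1 p.1.2).2 p.2)).isIntegral
  let w₁ : ↥S → Fin N → K₁ := fun w i => ⟨(w.1 : Fin N → Ω) i, IntermediateField.subset_adjoin k co ⟨(w, i), rfl⟩⟩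
  haveI := Hilb20.isProper_bc (X := X) k K₁
  haveI := Euler.isNoetherian_of_proper (X := Curv2.bc k X K₁) K₁
  let m := Fintype.card S
  let eS := (Fintype.equivFin S).symm
  let χ : (⨁ fun _ : Fin m => (Scheme.Modules.pullback (Curv2.bcFst k X K₁)).obj G) ⟶
      (Scheme.Modules.pullback (Curv2.bcFst k X K₁)).obj E :=
    biproduct.desc fun l => comb k K₁ b (w₁ (eS l))
  have hG₁ := Hilb20.isCoh_pullback_bc k K₁ hG
  have hE₁ := Hilb20.isCoh_pullback_bc k K₁ hE
  have hsrc : Coh.IsCoh (⨁ fun _ : Fin m => (Scheme.Modules.pullback (Curv2.bcFst k X K₁)).obj G) :=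
    QCoh.isCoh_biproduct_fin _ fun _ => hG₁
  refine ⟨K₁, hfd, Abelian.image χ, Abelian.image.ι χ, inferInstance,
    QCoh.isCoh_kernel _ hE₁ (QCoh.isCoh_cokernel χ hsrc hE₁), ?_⟩
  let H := Scheme.Modules.pullback (bcHom k X K₁.val)
  haveI := flat_bcHom k X K₁.val
  haveI := QCohDesc.mono_pullback_map (bcHom k X K₁.val) (Abelian.image.ι χ)
  let i' : H.obj (Abelian.image χ) ⟶ (Scheme.Modules.pullback (Curv2.bcFst k X Ω)).obj E :=
    H.map (Abelian.image.ι χ) ≫ (θ k X K₁.val).hom.app E
  haveI : Mono i' := mono_comp _ _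
  have key : ∀ l : Fin m, H.map (biproduct.ι _ l ≫ Abelian.factorThruImage χ) ≫ i' =
      (θ k X K₁.val).hom.app G ≫ comb k Ω b (eS l).1 := by
    intro l
    rw [← Category.assoc, ← Functor.map_comp, Category.assoc, Abelian.image.fac, biproduct.ι_desc]
    exact map_comb_bcHom Ω K₁.val b (w₁ (eS l))
  -- the image maps into `F`
  have ha : i' ≫ cokernel.π ι = 0 := by
    haveI : Epi (H.map (Abelian.factorThruImage χ)) :=
      haveI : H.IsLeftAdjoint := (Scheme.Modules.pullbackPushforwardAdjunction _).isLeftAdjoint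
      inferInstance
    rw [← cancel_epi (H.map (Abelian.factorThruImage χ)), Limits.comp_zero]
    apply ((Scheme.Modules.pullbackPushforwardAdjunction (bcHom k X K₁.val)).homEquiv _ _).injective
    refine biproduct.hom_ext' _ _ fun l => ?_
    rw [← Adjunction.homEquiv_naturality_left, ← Adjunction.homEquiv_naturality_left]
    congr 1
    rw [Limits.comp_zero, ← Category.assoc, ← Functor.map_comp, ← Category.assoc, key, Category.assoc,
      (hVmem _).1 (hS _ (eS l).2).1, Limits.comp_zero]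
  -- `F` maps into the image
  have hb : ι ≫ cokernel.π i' = 0 := by
    refine hgen _ _ fun i => ?_
    rw [Limits.comp_zero, ← Category.assoc, ← hv i]
    have hmem : v i ∈ LinearMap.ker ((CategoryTheory.Linear.rightComp Ω _ (cokernel.π i')).comp (comb k Ω b)) := by
      refine Submodule.span_le.2 (fun w hw => ?_) (hT i)
      rw [SetLike.mem_coe, LinearMap.mem_ker]
      show comb k Ω b w ≫ cokernel.π i' = 0
      have hwS : w ∈ S := Finset.mem_biUnion.2 ⟨i, Finset.mem_univ _, hw⟩
      have h := key (eS.symm ⟨w, hwS⟩)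
      rw [Equiv.apply_symm_apply] at h
      rw [← cancel_epi ((θ k X K₁.val).hom.app G), ← Category.assoc, ← h, Category.assoc, cokernel.condition,
        Limits.comp_zero, Limits.comp_zero]
    exact LinearMap.mem_ker.1 hmem
  exact ⟨{ hom := Abelian.monoLift ι i' ha
           inv := Abelian.monoLift i' ι hb
           hom_inv_id := by rw [← cancel_mono i', Category.assoc, Abelian.monoLift_comp, Abelian.monoLift_comp, Category.id_comp]
           inv_hom_id := by rw [← cancel_mono ι, Category.assoc, Abelian.monoLift_comp, Abelian.monoLift_comp, Category.id_comp] }⟩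

end GrothLib.GeomSS
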