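import Groth.Agent.Lib.GeomSS.Descend
import Groth.Agent.Lib.Hilb20.AbCat
import Groth.Agent.Lib.ASBun21.PushFree
import Groth.Agent.Lib.Regularity10.Transfer
import Groth.Agent.Lib.Snapper.PushEuler

/-!
# Finite extensions of the ground field
-/

set_option autoImplicit false
set_option linter.style.haveILetI false
set_option linter.unusedSectionVars false
set_option maxHeartbeats 1000000
set_option backward.isDefEq.respectTransparency.types false

universe u

open CategoryTheory CategoryTheory.Limits AlgebraicGeometry Polynomial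
open StabCat (alpha RedLE RedEq)

noncomputable section

namespace GrothLib.GeomSS

section Joint

variable {k : Type u} [Field k] {X : Scheme.{u}} [X.Over (Spec (CommRingCat.of k))]
  [IsProper (X ↘ Spec (CommRingCat.of k))] {L E : X.Modules} {d : ℕ}

/-- A module with a jointly monomorphic family of maps to a semistable module. -/
theorem joint_bound (hL : CohB1.IsAmple L) (hE : ShStab.IsSemistable k X L E d) {pE : ℚ[X]}
    (hpE : ShStab.IsHilbPoly k X L E pE) :
    ∀ (n : ℕ) (T : X.Modules) (f : Fin n → (T ⟶ E)),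
      (∀ {Z : X.Modules} (g : Z ⟶ T), (∀ i, g ≫ f i = 0) → g = 0) → Coh.IsCoh T →
      ∀ pT, ShStab.IsHilbPoly k X L T pT → (IsZero T ∨ 0 < alpha d pT) ∧ RedLE d pT pE := by
  haveI := Euler.isNoetherian_of_proper (X := X) k
  have hzero : ∀ (T : X.Modules), IsZero T → ∀ pT, ShStab.IsHilbPoly k X L T pT →
      (IsZero T ∨ 0 < alpha d pT) ∧ RedLE d pT pE := by
    intro T hz pT hpT
    refine ⟨Or.inl hz, ?_⟩
    rw [Hilb20.isHilbPoly_unique hpT (Hilb20.isHilbPoly_of_isZero hz)]
    exact ⟨0, fun m _ => by simp [alpha]⟩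
  intro n
  induction n with
  | zero =>
    intro T f hf _ pT hpT
    exact hzero T ((IsZero.iff_id_eq_zero T).2 (hf _ fun i => i.elim0)) pT hpT
  | succ n ih =>
    intro T f hf hT pT hpT
    let φ := f (Fin.last n)
    have hK := QCoh.isCoh_kernel φ hT hE.1
    have hI := Hilb20.isCoh_image (k := k) φ hT hE.1
    obtain ⟨w, hS⟩ := QCoh.shortExact_kernel_image φ
    obtain ⟨dK, hdK⟩ := Hilb20.exists_dimLT (k := k) (CohB1.support (kernel φ))
    obtain ⟨pK, hpK⟩ := Hilb20.exists_isHilbPoly (k := k) hL hK hdK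
    obtain ⟨pI, hpI⟩ := Hilb20.exists_isHilbPoly_sub (k := k) hL hE.2.2.1 (Abelian.image.ι φ) hI
    have e : pT = pK + pI := Hilb20.eq_add_of_shortExact hL.1 hS hK hT hI hpK hpT hpI
    obtain ⟨hK', hKle⟩ := ih (kernel φ) (fun i => kernel.ι φ ≫ f i.castSucc) (fun {Z} g hg => by
      rw [← cancel_mono (kernel.ι φ), Limits.zero_comp]
      refine hf _ fun i => ?_
      induction i using Fin.lastCases with
      | last => rw [Category.assoc]; show g ≫ kernel.ι φ ≫ φ = 0; rw [kernel.condition, Limits.comp_zero]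
      | cast i => rw [Category.assoc]; exact hg i) hK pK hpK
    have hI' : (IsZero (Abelian.image φ) ∨ 0 < alpha d pI) ∧ RedLE d pI pE := by
      by_cases hz : IsZero (Abelian.image φ)
      · exact hzero _ hz pI hpI
      · refine ⟨Or.inr (Hilb20.alpha_pos_of_pure hL hE.2.2.1 (Abelian.image.ι φ) hI hz hpI), ?_⟩
        by_cases hi : IsIso (Abelian.image.ι φ)
        · rw [Hilb20.isHilbPoly_unique (Hilb20.isHilbPoly_congr (asIso (Abelian.image.ι φ)) hpI) hpE]
          exact Hilb20.redLE_self d pE
        · exact hE.2.2.2 _ (Abelian.image.ι φ) inferInstance hI hz hi pI pE hpI hpE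
    refine ⟨?_, ?_⟩
    · by_cases hz : IsZero T
      · exact Or.inl hz
      right
      have hKnn : 0 ≤ alpha d pK := hK'.elim
        (fun h => by rw [Hilb20.isHilbPoly_unique hpK (Hilb20.isHilbPoly_of_isZero h)]; simp [alpha]) le_of_lt
      have hInn : 0 ≤ alpha d pI := hI'.1.elim
        (fun h => by rw [Hilb20.isHilbPoly_unique hpI (Hilb20.isHilbPoly_of_isZero h)]; simp [alpha]) le_of_lt
      rw [e, Hilb20.alpha_add]
      rcases hI'.1 with hzI | hposI
      · rcases hK' with hzK | hposK
        · exfalso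
          refine hz ((IsZero.iff_id_eq_zero T).2 ?_)
          have h1 : Abelian.factorThruImage φ = 0 := hzI.eq_zero_of_tgt _
          have h2 : φ = 0 := by rw [← Abelian.image.fac φ, h1, Limits.zero_comp]
          haveI : IsIso (kernel.ι φ) := by rw [h2]; infer_instance
          rw [← cancel_epi (kernel.ι φ)]
          exact hzK.eq_of_src _ _
        · linarith
      · linarith
    · obtain ⟨N₁, hN₁⟩ := hKle
      obtain ⟨N₂, hN₂⟩ := hI'.2
      refine ⟨max N₁ N₂, fun m hm => ?_⟩
      have h1 := hN₁ m (le_trans (le_max_left _ _) hm)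
      have h2 := hN₂ m (le_trans (le_max_right _ _) hm)
      simp only [e, Hilb20.alpha_add, eval_smul, eval_add, smul_eq_mul] at h1 h2 ⊢
      linarith

end Joint

section Push

variable {k : Type u} [Field k] {X : Scheme.{u}} [X.Over (Spec (CommRingCat.of k))]
  [IsProper (X ↘ Spec (CommRingCat.of k))] (K : Type u) [Field K] [Algebra k K] [FiniteDimensional k K]

local notation "π" => Curv2.bcFst k X K

theorem isFinite_bcFst : IsFinite (Curv2.bcFst k X K) := by
  haveI : IsFinite (Spec.map (CommRingCat.ofHom (algebraMap k K))) :=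
    (IsFinite.SpecMap_iff _).2 (RingHom.finite_algebraMap.2 ‹_›)
  exact MorphismProperty.pullback_fst _ _ inferInstance

theorem euler_push_bcFst (M : (Curv2.bc k X K).Modules) [M.IsQuasicoherent] :
    Curv2.euler k X ((Scheme.Modules.pushforward π).obj M) =
      Module.finrank k K * Curv2.euler K (Curv2.bc k X K) M := by
  haveI := isFinite_bcFst (k := k) (X := X) K
  let inst : (Curv2.bc k X K).Over (Spec (CommRingCat.of k)) := ⟨π ≫ X ↘ Spec (CommRingCat.of k)⟩
  rw [@Snapper.euler_pushforward k _ (Curv2.bc k X K) X inst _ (Curv2.bcFst k X K) _ rfl M _]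
  unfold Curv2.euler
  rw [← smul_eq_mul, smul_finsum]
  refine finsum_congr fun i => ?_
  rw [smul_eq_mul]
  letI mk' : Module k (Coh.HH (Curv2.bc k X K) M i) := @Coh.moduleOver k _ (Curv2.bc k X K) inst M i
  haveI : IsScalarTower k K (Coh.HH (Curv2.bc k X K) M i) := IsScalarTower.of_algebraMap_smul fun c x => by
    show Coh.toGlobal (Curv2.bcSnd k X K) (algebraMap k K c) • x =
      Coh.toGlobal (π ≫ X ↘ Spec (CommRingCat.of k)) c • x
    congr 1
    rw [pullback.condition]
    show (Curv2.bcSnd k X K).appTop ((Scheme.ΓSpecIso (CommRingCat.of K)).inv (algebraMap k K c)) =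
      (Curv2.bcSnd k X K ≫ Spec.map (CommRingCat.ofHom (algebraMap k K))).appTop
        ((Scheme.ΓSpecIso (CommRingCat.of k)).inv c)
    rw [Scheme.Hom.comp_appTop, ConcreteCategory.comp_apply]
    exact congrArg (Curv2.bcSnd k X K).appTop
      (congr($(Scheme.ΓSpecIso_inv_naturality (CommRingCat.ofHom (algebraMap k K))) c))
  rw [← Module.finrank_mul_finrank k K (Coh.HH (Curv2.bc k X K) M i)]
  push_cast
  ring

theorem isHilbPoly_push {L : X.Modules} (hL : PicF.IsInvertible L) {M : (Curv2.bc k X K).Modules} (hM : Coh.IsCoh M)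
    {P : ℚ[X]}
    (hP : ShStab.IsHilbPoly K (Curv2.bc k X K) ((Scheme.Modules.pullback π).obj L) M P) :
    ShStab.IsHilbPoly k X L ((Scheme.Modules.pushforward π).obj M) ((Module.finrank k K : ℚ) • P) := by
  intro m
  obtain ⟨p⟩ := Ample.nonempty_pullback_tensorPow π hL m
  obtain ⟨t⟩ := Regularity.nonempty_push_tensor π
    (Euler.isFinLocFree_of_isInvertible (Ample.isInvertible_tensorPow hL m)) M p.symm
  haveI : (ShStab.twist (Curv2.bc k X K) ((Scheme.Modules.pullback π).obj L) M m).IsQuasicoherent :=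
    VA.isQCoh_tensor hM.1 (Euler.isCoh_of_isInvertible
      (Ample.isInvertible_tensorPow (Ample.isInvertible_pullback π hL) m)).1
  let t' : (Scheme.Modules.pushforward π).obj (ShStab.twist (Curv2.bc k X K) ((Scheme.Modules.pullback π).obj L) M m) ≅
      ShStab.twist X L ((Scheme.Modules.pushforward π).obj M) m := t
  rw [← Euler.euler_of_iso k t', euler_push_bcFst K, eval_smul, smul_eq_mul, ← hP m]
  push_cast
  ring

theorem nonempty_pi_iso_biprod {n : ℕ} (E : X.Modules) :
    Nonempty ((⨁ fun _ : Fin (n + 1) => E) ≅ (⨁ fun _ : Fin n => E) ⊞ E) :=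
  ⟨{ hom := biprod.lift (biproduct.lift fun i => biproduct.π (fun _ : Fin (n + 1) => E) i.castSucc)
      (biproduct.π (fun _ : Fin (n + 1) => E) (Fin.last n))
     inv := biproduct.lift (Fin.lastCases biprod.snd fun i => biprod.fst ≫ biproduct.π (fun _ : Fin n => E) i)
     hom_inv_id := biproduct.hom_ext _ _ fun i => by
       induction i using Fin.lastCases with
       | last => simp
       | cast i => simp
     inv_hom_id := by
       apply biprod.hom_ext
       · refine biproduct.hom_ext _ _ fun i => ?_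
         simp
       · simp }⟩

theorem isHilbPoly_power {L E : X.Modules} (hL : CohB1.IsAmple L) (hE : Coh.IsCoh E) {P : ℚ[X]}
    (hP : ShStab.IsHilbPoly k X L E P) :
    ∀ n : ℕ, Coh.IsCoh (⨁ fun _ : Fin n => E) ∧ ShStab.IsHilbPoly k X L (⨁ fun _ : Fin n => E) ((n : ℚ) • P) := by
  haveI := Euler.isNoetherian_of_proper (X := X) k
  intro n
  induction n with
  | zero =>
    refine ⟨QCoh.isCoh_biproduct_fin _ fun _ => hE, ?_⟩
    rw [Nat.cast_zero, zero_smul]
    exact Hilb20.isHilbPoly_of_isZero
      ((IsZero.iff_id_eq_zero _).2 (biproduct.hom_ext _ _ fun i => i.elim0))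
  | succ n ih =>
    refine ⟨QCoh.isCoh_biproduct_fin _ fun _ => hE, ?_⟩
    obtain ⟨e⟩ := nonempty_pi_iso_biprod (X := X) (n := n) E
    refine Hilb20.isHilbPoly_congr e.symm ?_
    rw [Nat.cast_succ, add_smul, one_smul]
    exact Hilb20.isHilbPoly_add hL.1 (S := ShortComplex.mk _ _ biprod.inl_snd)
      (ShortComplex.Splitting.ofHasBinaryBiproduct (⨁ fun _ : Fin n => E) E).shortExact ih.1
      (QCoh.isCoh_of_iso e (QCoh.isCoh_biproduct_fin _ fun _ => hE)) hE ih.2 hP

/-- The coordinates of the direct image of a pullback. -/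
theorem exists_coordinates {L E : X.Modules} (hL : CohB1.IsAmple L) (hE : Coh.IsCoh E) :
    ∃ c : Fin (Module.finrank k K) →
        ((Scheme.Modules.pushforward π).obj ((Scheme.Modules.pullback π).obj E) ⟶ E),
      ∀ {Z : X.Modules} (g : Z ⟶ _), (∀ i, g ≫ c i = 0) → g = 0 := by
  classical
  haveI := Euler.isNoetherian_of_proper (X := X) k
  haveI := Hilb20.isProper_bc (X := X) k K
  haveI := isFinite_bcFst (k := k) (X := X) K
  haveI := hE.1
  let n := Module.finrank k K
  let b : Module.Basis (Fin n) k K := Module.finBasis k K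
  let adj := Scheme.Modules.pullbackPushforwardAdjunction (Curv2.bcFst k X K)
  let q : (⨁ fun _ : Fin n => E) ⟶ (Scheme.Modules.pushforward π).obj ((Scheme.Modules.pullback π).obj E) :=
    biproduct.desc fun i => adj.homEquiv _ _ (b i • 𝟙 ((Scheme.Modules.pullback π).obj E))
  haveI hq : Mono q := Preadditive.mono_of_cancel_zero q fun {T} g hg => by
    refine biproduct.hom_ext _ _ fun l => ?_
    rw [Limits.zero_comp]
    refine ASBun21.eq_zero_of_linearIndependent (X ↘ Spec (CommRingCat.of k)) K b.linearIndependent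
      (fun i => g ≫ biproduct.π (fun _ : Fin n => E) i) ?_ l
    have h1 : (adj.homEquiv _ _).symm (g ≫ q) = 0 := by
      rw [hg, Adjunction.homEquiv_counit, Functor.map_zero, Limits.zero_comp]
    rw [Adjunction.homEquiv_naturality_left_symm] at h1
    have h2 : (adj.homEquiv _ _).symm q =
        ∑ i, b i • (Scheme.Modules.pullback π).map (biproduct.π (fun _ : Fin n => E) i) := by
      rw [Equiv.symm_apply_eq]
      refine biproduct.hom_ext' _ _ fun i => ?_
      rw [biproduct.ι_desc, ← Adjunction.homEquiv_naturality_left]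
      congr 1
      rw [Preadditive.comp_sum, Finset.sum_eq_single i]
      · rw [CategoryTheory.Linear.comp_smul, ← Functor.map_comp, biproduct.ι_π_self, CategoryTheory.Functor.map_id]
      · intro j _ hj
        rw [CategoryTheory.Linear.comp_smul, ← Functor.map_comp, biproduct.ι_π_ne _ hj.symm, Functor.map_zero, smul_zero]
      · exact fun h => absurd (Finset.mem_univ i) h
    rw [h2, Preadditive.comp_sum] at h1
    simpa only [CategoryTheory.Linear.comp_smul, ← Functor.map_comp] using h1
  obtain ⟨dE, hdE⟩ := Hilb20.exists_dimLT (k := k) (CohB1.support E)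
  obtain ⟨P, hP⟩ := Hilb20.exists_isHilbPoly (k := k) hL hE hdE
  have hE' := Hilb20.isCoh_pullback_bc k K hE
  obtain ⟨hsrc, hPsrc⟩ := isHilbPoly_power hL hE hP n
  have htgt := ASBun21.isCoh_push_finite (Curv2.bcFst k X K) hE'
  have hPtgt := isHilbPoly_push K hL.1 hE' (Hilb20.isHilbPoly_bc k K hL.1 hE hP)
  obtain ⟨hC, -, pC, hpC, e⟩ := Hilb20.exists_quotient_poly hL hsrc htgt q hPsrc hPtgt
  obtain ⟨dC, hdC⟩ := Hilb20.exists_dimLT (k := k) (CohB1.support (cokernel q))
  rw [left_eq_add] at e
  haveI : Epi q := Preadditive.epi_of_cokernel_zero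
    ((Hilb20.isZero_of_isHilbPoly_zero hL hC hdC (e ▸ hpC)).eq_zero_of_tgt _)
  haveI := isIso_of_mono_of_epi q
  refine ⟨fun i => inv q ≫ biproduct.π (fun _ : Fin n => E) i, fun {Z} g hg => ?_⟩
  have h3 : g ≫ inv q = 0 := biproduct.hom_ext _ _ fun i => by rw [Category.assoc, hg i, Limits.zero_comp]
  rw [← Category.comp_id g, ← IsIso.inv_hom_id q, ← Category.assoc, h3, Limits.zero_comp]

/-- Submodules over a finite extension are no worse than over the ground field. -/
theorem finite_bound {L E : X.Modules} {d : ℕ} (hL : CohB1.IsAmple L) (hE : ShStab.IsSemistable k X L E d)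
    {pE : ℚ[X]} (hpE : ShStab.IsHilbPoly k X L E pE) {F : (Curv2.bc k X K).Modules}
    (ι : F ⟶ (Scheme.Modules.pullback π).obj E) [Mono ι] (hF : Coh.IsCoh F) {pF : ℚ[X]}
    (hpF : ShStab.IsHilbPoly K (Curv2.bc k X K) ((Scheme.Modules.pullback π).obj L) F pF) :
    (IsZero F ∨ 0 < alpha d pF) ∧ RedLE d pF pE := by
  haveI := Euler.isNoetherian_of_proper (X := X) k
  haveI := Hilb20.isProper_bc (X := X) k K
  haveI := isFinite_bcFst (k := k) (X := X) K
  haveI : (Scheme.Modules.pushforward (Curv2.bcFst k X K)).IsRightAdjoint :=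
    (Scheme.Modules.pullbackPushforwardAdjunction (Curv2.bcFst k X K)).isRightAdjoint
  obtain ⟨c, hc⟩ := exists_coordinates (k := k) K hL hE.1
  have hT := ASBun21.isCoh_push_finite (Curv2.bcFst k X K) hF
  have hpT := isHilbPoly_push K hL.1 hF hpF
  obtain ⟨h1, h2⟩ := joint_bound hL hE hpE _ _ (fun i => (Scheme.Modules.pushforward π).map ι ≫ c i)
    (fun {Z} g hg => by
      rw [← cancel_mono ((Scheme.Modules.pushforward π).map ι), Limits.zero_comp]
      exact hc _ fun i => by rw [Category.assoc]; exact hg i) hT _ hpT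
  have hn : (0 : ℚ) < Module.finrank k K := Nat.cast_pos.2 Module.finrank_pos
  have hα : alpha d ((Module.finrank k K : ℚ) • pF) = Module.finrank k K * alpha d pF := by
    simp [alpha, coeff_smul]; ring
  rw [hα] at h1
  refine ⟨h1.imp (fun hz => ?_) (fun h => (mul_pos_iff_of_pos_left hn).1 h), ?_⟩
  · have he := Hilb20.isHilbPoly_unique hpT (Hilb20.isHilbPoly_of_isZero hz)
    rw [smul_eq_zero] at he
    obtain ⟨dF, hdF⟩ := Hilb20.exists_dimLT (k := K) (CohB1.support F)
    haveI : IsAffineHom (Curv2.bcFst k X K) := inferInstance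
    refine Hilb20.isZero_of_isHilbPoly_zero (k := K) (Ample.isAmple_pullback_of_isAffineHom π hL) hF hdF ?_
    rwa [← he.resolve_left hn.ne']
  · obtain ⟨N, hN⟩ := h2
    refine ⟨N, fun m hm => ?_⟩
    have h3 := hN m hm
    simp only [hα, eval_smul, smul_eq_mul] at h3 ⊢
    exact le_of_mul_le_mul_left (by linarith) hn

end Push

end GrothLib.GeomSS
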